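import Cfsg.Agent.Lib.Spor.McLUnitary.Data

/-!
The two permutations of degree 112 generate a group of order at least 3265920.
-/

set_option autoImplicit false
set_option maxRecDepth 100000

namespace CfsgLib.Spor.McLUnitary

open CfsgLib.Spor.HSUnitary (RepL mem_of_slpL slpL chainL le_card_of_chainL)

/-- the first permutation -/
noncomputable def pA : Equiv.Perm (Fin 112) :=
  Equiv.ofBijective (fun i => Fin.ofNat 112 (permA.getD i 0)) (by decide +kernel)

/-- the second permutation -/
noncomputable def pB : Equiv.Perm (Fin 112) :=
  Equiv.ofBijective (fun i => Fin.ofNat 112 (permB.getD i 0)) (by decide +kernel)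

theorem pA_val (i : Fin 112) : (pA i : ℕ) = permA.getD i 0 :=
  Nat.mod_eq_of_lt (show permA.getD i 0 < 112 by revert i; decide +kernel)

theorem pB_val (i : Fin 112) : (pB i : ℕ) = permB.getD i 0 :=
  Nat.mod_eq_of_lt (show permB.getD i 0 < 112 by revert i; decide +kernel)

/-- the group generated by the two permutations -/
abbrev model : Subgroup (Equiv.Perm (Fin 112)) := Subgroup.closure {pA, pB}

theorem le_card_model : 3265920 ≤ Nat.card model := by
  have hr := mem_of_slpL (H := model) permRows [permA, permB] (by decide +kernel) fun a ha => by
    simp only [List.mem_cons, List.not_mem_nil, or_false] at ha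
    rcases ha with rfl | rfl
    · exact ⟨pA, Subgroup.subset_closure (by simp), fun i => (pA_val i).symm⟩
    · exact ⟨pB, Subgroup.subset_closure (by simp), fun i => (pB_val i).symm⟩
  have hsub : (permLev.all fun l => l.2.all fun t =>
      decide (t = List.range 112) || decide (t = permA) || decide (t = permB) ||
        permRows.any fun e => decide (t = e.1)) = true := by decide +kernel
  refine le_trans (le_of_eq ?_) (le_card_of_chainL permLev (by decide +kernel) model fun l hl t ht => ?_)
  · decide +kernel
  have h := List.all_eq_true.1 (List.all_eq_true.1 hsub l hl) t ht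
  simp only [Bool.or_eq_true, decide_eq_true_eq, List.any_eq_true] at h
  rcases h with ((rfl | rfl) | rfl) | ⟨e, he, rfl⟩
  · exact ⟨1, Subgroup.one_mem _, RepL.one⟩
  · exact ⟨pA, Subgroup.subset_closure (by simp), fun i => (pA_val i).symm⟩
  · exact ⟨pB, Subgroup.subset_closure (by simp), fun i => (pB_val i).symm⟩
  · exact hr e he

end CfsgLib.Spor.McLUnitary
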