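import Cfsg.Agent.Lib.Spor.McLUnitary.Field

/-!
Arithmetic of coded matrices over the field of order `9`, on natural numbers.
-/

set_option autoImplicit false
set_option maxRecDepth 100000

namespace CfsgLib.Spor.McLUnitary

/-- the field element with a given code -/
def kOf (x : ℕ) : K9 := ⟨((x % 3 : ℕ) : ZMod 3), ((x / 3 : ℕ) : ZMod 3)⟩

/-- sum of codes -/
def addN (x y : ℕ) : ℕ := (x % 3 + y % 3) % 3 + 3 * ((x / 3 + y / 3) % 3)

/-- product of codes -/
def mulN (x y : ℕ) : ℕ :=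
  (x % 3 * (y % 3) + 2 * (x / 3 * (y / 3))) % 3 + 3 * ((x % 3 * (y / 3) + x / 3 * (y % 3)) % 3)

/-- difference of codes -/
def subN (x y : ℕ) : ℕ := addN x (mulN 2 y)

theorem addN_parts (x y : ℕ) : addN x y % 3 = (x % 3 + y % 3) % 3 ∧
    addN x y / 3 = (x / 3 + y / 3) % 3 := by
  constructor <;> (unfold addN; omega)

theorem mulN_parts (x y : ℕ) :
    mulN x y % 3 = (x % 3 * (y % 3) + 2 * (x / 3 * (y / 3))) % 3 ∧
    mulN x y / 3 = (x % 3 * (y / 3) + x / 3 * (y % 3)) % 3 := by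
  unfold mulN
  generalize x % 3 * (y % 3) + 2 * (x / 3 * (y / 3)) = A
  generalize x % 3 * (y / 3) + x / 3 * (y % 3) = B
  constructor <;> omega

theorem kOf_add (x y : ℕ) : kOf (addN x y) = kOf x + kOf y := by
  obtain ⟨h1, h2⟩ := addN_parts x y
  ext
  · simp [kOf, h1, ZMod.natCast_mod]
  · simp [kOf, h2, ZMod.natCast_mod]

theorem kOf_mul (x y : ℕ) : kOf (mulN x y) = kOf x * kOf y := by
  obtain ⟨h1, h2⟩ := mulN_parts x y
  ext
  · simp [kOf, h1, ZMod.natCast_mod, QuadraticAlgebra.re_mul]; ring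
  · simp [kOf, h2, ZMod.natCast_mod, QuadraticAlgebra.im_mul]

theorem kOf_sub (x y : ℕ) : kOf (subN x y) = kOf x - kOf y := by
  rw [subN, kOf_add, kOf_mul, show kOf 2 = -1 by decide +kernel, neg_one_mul, sub_eq_add_neg]

theorem kOf_zero : kOf 0 = 0 := by decide +kernel

theorem kOf_one : kOf 1 = 1 := by decide +kernel

theorem kOf_inj : ∀ x < 9, ∀ y < 9, kOf x = kOf y → x = y := by decide +kernel

/-- an entry of a coded matrix -/
def ent (c i j : ℕ) : ℕ := c / 9 ^ (4 * i + j) % 9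

theorem ofCode_apply (c : ℕ) (i j : Fin 4) : ofCode c i j = kOf (ent c i j) := rfl

/-- all pairs of indices below `4` -/
def allB (f : ℕ → ℕ → Bool) : Bool :=
  (List.range 4).all fun i => (List.range 4).all fun j => f i j

theorem allB_spec {f : ℕ → ℕ → Bool} (h : allB f = true) (i j : Fin 4) : f i j = true :=
  List.all_eq_true.1 (List.all_eq_true.1 h i (List.mem_range.2 i.2)) j (List.mem_range.2 j.2)

/-- an entry of a product of coded matrices -/
def dotN (a b i j : ℕ) : ℕ :=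
  addN (addN (addN (mulN (ent a i 0) (ent b 0 j)) (mulN (ent a i 1) (ent b 1 j)))
    (mulN (ent a i 2) (ent b 2 j))) (mulN (ent a i 3) (ent b 3 j))

theorem kOf_dotN (a b : ℕ) (i j : Fin 4) :
    kOf (dotN a b i j) = (ofCode a * ofCode b) i j := by
  simp only [dotN, kOf_add, kOf_mul, Matrix.mul_apply, Fin.sum_univ_four, ofCode_apply]
  rfl

/-- equality of two products of coded matrices -/
def prodEqB (a b c d : ℕ) : Bool := allB fun i j => Nat.beq (dotN a b i j) (dotN c d i j)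

theorem prodEqB_spec {a b c d : ℕ} (h : prodEqB a b c d = true) :
    ofCode a * ofCode b = ofCode c * ofCode d := by
  refine Matrix.ext fun i j => ?_
  rw [← kOf_dotN, ← kOf_dotN, Nat.eq_of_beq_eq_true (allB_spec h i j)]

/-- the cube of a code -/
def cubeN (x : ℕ) : ℕ := mulN (mulN x x) x

/-- the unitarity condition on a code -/
def unitB (c : ℕ) : Bool := allB fun i j => Nat.beq
  (addN (addN (addN (mulN (ent c 0 i) (cubeN (ent c 0 j))) (mulN (ent c 1 i) (cubeN (ent c 1 j))))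
    (mulN (ent c 2 i) (cubeN (ent c 2 j)))) (mulN (ent c 3 i) (cubeN (ent c 3 j))))
  (if Nat.beq i j then 1 else 0)

theorem unitB_spec {c : ℕ} (h : unitB c = true) :
    (ofCode c).transpose * (ofCode c).map (fun x => x * x * x) = 1 := by
  refine Matrix.ext fun i j => ?_
  have e := congrArg kOf (Nat.eq_of_beq_eq_true (allB_spec h i j))
  simp only [kOf_add, kOf_mul, cubeN] at e
  rw [Matrix.mul_apply, Fin.sum_univ_four, Matrix.one_apply]
  simp only [Matrix.transpose_apply, Matrix.map_apply, ofCode_apply]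
  refine e.trans ?_
  rcases eq_or_ne i j with rfl | hij
  · simp [kOf_one]
  · rw [if_neg hij, if_neg (by simpa [Nat.beq_eq] using Fin.val_injective.ne hij), kOf_zero]

/-- a `2 × 2` minor -/
def minN (c r s p q : ℕ) : ℕ :=
  subN (mulN (ent c r p) (ent c s q)) (mulN (ent c r q) (ent c s p))

/-- the determinant of a coded matrix -/
def detN (c : ℕ) : ℕ :=
  addN (subN (addN (addN (subN
    (mulN (minN c 0 1 0 1) (minN c 2 3 2 3))
    (mulN (minN c 0 1 0 2) (minN c 2 3 1 3)))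
    (mulN (minN c 0 1 0 3) (minN c 2 3 1 2)))
    (mulN (minN c 0 1 1 2) (minN c 2 3 0 3)))
    (mulN (minN c 0 1 1 3) (minN c 2 3 0 2)))
    (mulN (minN c 0 1 2 3) (minN c 2 3 0 1))

theorem det_four {R : Type*} [CommRing R] (M : Matrix (Fin 4) (Fin 4) R) :
    M.det = (M 0 0 * M 1 1 - M 0 1 * M 1 0) * (M 2 2 * M 3 3 - M 2 3 * M 3 2) -
      (M 0 0 * M 1 2 - M 0 2 * M 1 0) * (M 2 1 * M 3 3 - M 2 3 * M 3 1) +
      (M 0 0 * M 1 3 - M 0 3 * M 1 0) * (M 2 1 * M 3 2 - M 2 2 * M 3 1) +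
      (M 0 1 * M 1 2 - M 0 2 * M 1 1) * (M 2 0 * M 3 3 - M 2 3 * M 3 0) -
      (M 0 1 * M 1 3 - M 0 3 * M 1 1) * (M 2 0 * M 3 2 - M 2 2 * M 3 0) +
      (M 0 2 * M 1 3 - M 0 3 * M 1 2) * (M 2 0 * M 3 1 - M 2 1 * M 3 0) := by
  simp [Matrix.det_succ_row_zero, Fin.sum_univ_succ, Fin.succAbove]
  ring

theorem kOf_detN (c : ℕ) : kOf (detN c) = (ofCode c).det := by
  rw [det_four]
  simp only [detN, minN, kOf_add, kOf_sub, kOf_mul, ofCode_apply]
  rfl

theorem isSU_of_code {c : ℕ} (h : (unitB c && Nat.beq (detN c) 1) = true) : IsSU (ofCode c) := by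
  simp only [Bool.and_eq_true, Nat.beq_eq] at h
  exact ⟨by rw [← kOf_detN, h.2, kOf_one], unitB_spec h.1⟩

/-- a trace-one code equal to its digits -/
def normB (c : ℕ) : Bool :=
  Nat.beq (addN (addN (addN (ent c 0 0) (ent c 1 1)) (ent c 2 2)) (ent c 3 3)) 1 &&
    Nat.beq ((List.range 16).map fun n => ent c (n / 4) (n % 4) * 9 ^ n).sum c

theorem normB_trace {c : ℕ} (h : normB c = true) :
    ofCode c 0 0 + ofCode c 1 1 + ofCode c 2 2 + ofCode c 3 3 = 1 := by
  simp only [normB, Bool.and_eq_true, Nat.beq_eq] at h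
  have e := congrArg kOf h.1
  rw [kOf_add, kOf_add, kOf_add, kOf_one] at e
  exact e

theorem normB_inj {c d : ℕ} (hc : normB c = true) (hd : normB d = true)
    (h : ofCode c = ofCode d) : c = d := by
  simp only [normB, Bool.and_eq_true, Nat.beq_eq] at hc hd
  rw [← hc.2, ← hd.2]
  refine congrArg List.sum (List.map_congr_left fun n hn => ?_)
  congr 1
  have hn' : n / 4 < 4 := by have := List.mem_range.1 hn; omega
  have e := congrFun (congrFun h ⟨n / 4, hn'⟩) ⟨n % 4, Nat.mod_lt _ (by norm_num)⟩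
  rw [ofCode_apply, ofCode_apply] at e
  exact kOf_inj _ (Nat.mod_lt _ (by norm_num)) _ (Nat.mod_lt _ (by norm_num)) e

theorem smul_inj_of_trace {c d : ℕ} (hc : normB c = true) (hd : normB d = true) {a : K9}
    (h : ofCode c = a • ofCode d) : c = d := by
  have e := normB_trace hc
  rw [h] at e
  simp only [Matrix.smul_apply, smul_eq_mul] at e
  rw [← mul_add, ← mul_add, ← mul_add, normB_trace hd, mul_one] at e
  subst e
  rw [one_smul] at h
  exact normB_inj hc hd h

end CfsgLib.Spor.McLUnitary
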