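import Cfsg.Agent.Lib.Spor.McLUnitary.Perm
import Cfsg.Agent.Lib.Spor.McLUnitary.Code

/-!
`PSU₄(3)` on 112 sets of transvections.
-/

set_option autoImplicit false
set_option maxRecDepth 100000

namespace CfsgLib.Spor.McLUnitary

open CfsgLib.Spor.HSUnitary (equiv_closure_of_action)
open scoped Pointwise

/-- the matrix of a transvection -/
def tvM (k : ℕ) : Matrix (Fin 4) (Fin 4) K9 := ofCode (tvCodes.getD k 0)

theorem isSU_gens : IsSU (ofCode matA) ∧ IsSU (ofCode matB) :=
  ⟨isSU_of_code (by decide +kernel), isSU_of_code (by decide +kernel)⟩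

/-- all the conditions on the coded transvections -/
def tvCheck (k : ℕ) : Bool :=
  unitB (tvCodes.getD k 0) && Nat.beq (detN (tvCodes.getD k 0)) 1 && normB (tvCodes.getD k 0) &&
    prodEqB matA (tvCodes.getD k 0) (tvCodes.getD (conjA.getD k 0) 0) matA &&
    prodEqB matB (tvCodes.getD k 0) (tvCodes.getD (conjB.getD k 0) 0) matB &&
    Nat.blt (conjA.getD k 0) 560 && Nat.blt (conjB.getD k 0) 560

theorem tvCheck_all : ((List.range 560).all tvCheck) = true := by decide +kernel

theorem tvCheck_spec (k : Fin 560) :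
    IsSU (tvM k) ∧ normB (tvCodes.getD k 0) = true ∧
    (ofCode matA * tvM k = tvM (conjA.getD k 0) * ofCode matA ∧
      ofCode matB * tvM k = tvM (conjB.getD k 0) * ofCode matB) ∧
    (conjA.getD k 0 < 560 ∧ conjB.getD k 0 < 560) := by
  have h := List.all_eq_true.1 tvCheck_all k (List.mem_range.2 k.2)
  simp only [tvCheck, Bool.and_eq_true] at h
  obtain ⟨⟨⟨⟨⟨⟨h1, h2⟩, h3⟩, h4⟩, h5⟩, h6⟩, h7⟩ := h
  exact ⟨isSU_of_code (by rw [h1, h2]; rfl), h3, ⟨prodEqB_spec h4, prodEqB_spec h5⟩,
    ⟨Nat.le_of_ble_eq_true h6, Nat.le_of_ble_eq_true h7⟩⟩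

theorem tvM_isSU (k : Fin 560) : IsSU (tvM k) := (tvCheck_spec k).1

theorem conj_tab (k : Fin 560) : ofCode matA * tvM k = tvM (conjA.getD k 0) * ofCode matA ∧
    ofCode matB * tvM k = tvM (conjB.getD k 0) * ofCode matB := (tvCheck_spec k).2.2.1

theorem conj_lt (k : Fin 560) : conjA.getD k 0 < 560 ∧ conjB.getD k 0 < 560 :=
  (tvCheck_spec k).2.2.2

theorem tvCodes_nodup : (tvCodes.Pairwise fun a b => a < b) := by decide +kernel

theorem tvCodes_length : tvCodes.length = 560 := by decide +kernel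

theorem lineLists_lt : (lineLists.all fun l => l.all fun k => Nat.blt k 560) = true := by
  decide +kernel

theorem lineLists_length : lineLists.length = 112 := by decide +kernel

/-- inclusion of lists of numbers -/
def subB (l m : List ℕ) : Bool := l.all fun k => m.any (Nat.beq k)

theorem subB_iff {l m : List ℕ} : subB l m = true ↔ ∀ k ∈ l, k ∈ m := by
  simp [subB, List.any_eq_true, Nat.beq_eq]

theorem lineLists_sep : ((List.range 112).all fun i => (List.range 112).all fun j =>
    Nat.beq i j || !subB (lineLists.getD i []) (lineLists.getD j [])) = true := by decide +kernel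

theorem conjA_sets : ((List.range 112).all fun i =>
    subB ((lineLists.getD i []).map fun k => conjA.getD k 0) (lineLists.getD (permA.getD i 0) []) &&
    subB (lineLists.getD (permA.getD i 0) []) ((lineLists.getD i []).map fun k => conjA.getD k 0)) = true := by
  decide +kernel

theorem conjB_sets : ((List.range 112).all fun i =>
    subB ((lineLists.getD i []).map fun k => conjB.getD k 0) (lineLists.getD (permB.getD i 0) []) &&
    subB (lineLists.getD (permB.getD i 0) []) ((lineLists.getD i []).map fun k => conjB.getD k 0)) = true := by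
  decide +kernel

theorem psu_equiv_model {F : Type} [Field F] [Fintype F] (hF : Fintype.card F = 9) :
    Nonempty (Cfsg.PSU 4 F 3 ≃* model) := by
  classical
  haveI := charP_three hF
  obtain ⟨φ⟩ := exists_ringEquiv hF
  obtain ⟨sA, hsA⟩ := exists_toK φ isSU_gens.1
  obtain ⟨sB, hsB⟩ := exists_toK φ isSU_gens.2
  have hex : ∀ k : Fin 560, ∃ g : Cfsg.SU 4 F 3, toK φ g = tvM k :=
    fun k => exists_toK φ (tvM_isSU k)
  choose s hs using hex
  let π := QuotientGroup.mk' (Subgroup.center (Cfsg.SU 4 F 3))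
  have hπinj : ∀ k l : Fin 560, π (s k) = π (s l) → k = l := by
    intro k l h
    have hc : (s k)⁻¹ * s l ∈ Subgroup.center (Cfsg.SU 4 F 3) := QuotientGroup.eq.1 h
    have hl : tvM l = tvM k * toK φ ((s k)⁻¹ * s l) := by
      rw [← hs k, ← hs l, ← map_mul, mul_inv_cancel_left]
    obtain ⟨a, ha⟩ : ∃ a : K9, tvM l = a • tvM k := by
      rcases toK_center hF φ hc with e | e | e | e <;> rw [e] at hl
      · exact ⟨1, by rw [one_smul, hl, mul_one]⟩
      all_goals exact ⟨_, by rw [hl, Matrix.mul_smul, mul_one]⟩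
    have e := smul_inj_of_trace (tvCheck_spec l).2.1 (tvCheck_spec k).2.1 ha
    rw [List.getD_eq_getElem _ _ (by rw [tvCodes_length]; exact l.2),
      List.getD_eq_getElem _ _ (by rw [tvCodes_length]; exact k.2)] at e
    have hnd : tvCodes.Nodup := tvCodes_nodup.imp fun h => Nat.ne_of_lt h
    exact (Fin.ext (hnd.getElem_inj_iff.1 e)).symm
  let obj : Fin 112 → Set (Cfsg.PSU 4 F 3) :=
    fun i => (fun k => π (s k)) '' {k : Fin 560 | (k : ℕ) ∈ lineLists.getD i []}
  have hlt : ∀ i : Fin 112, ∀ k ∈ lineLists.getD i [], k < 560 := fun i k hk => by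
    have hi : (i : ℕ) < lineLists.length := by rw [lineLists_length]; exact i.2
    rw [List.getD_eq_getElem _ _ hi] at hk
    exact Nat.le_of_ble_eq_true
      (List.all_eq_true.1 (List.all_eq_true.1 lineLists_lt _ (List.getElem_mem hi)) k hk)
  have hobj : Function.Injective obj := by
    intro i j h
    have h1 := List.all_eq_true.1 (List.all_eq_true.1 lineLists_sep i (List.mem_range.2 i.2)) j
      (List.mem_range.2 j.2)
    simp only [Bool.or_eq_true, Nat.beq_eq, Bool.not_eq_true'] at h1
    refine Fin.ext (h1.resolve_right fun hn => ?_)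
    rw [← Bool.not_eq_true, subB_iff] at hn
    refine hn fun k hk => ?_
    have : π (s ⟨k, hlt i k hk⟩) ∈ obj j := h ▸ ⟨⟨k, hlt i k hk⟩, hk, rfl⟩
    obtain ⟨l, hl, e⟩ := this
    obtain rfl := hπinj _ _ e
    exact hl
  have key : ∀ (g : Cfsg.SU 4 F 3) (ct : List ℕ) (p : Fin 112 → Fin 112),
      (∀ k : Fin 560, ∃ h : ct.getD k 0 < 560, toK φ g * tvM k = tvM (ct.getD k 0) * toK φ g) →
      (∀ i : Fin 112, subB ((lineLists.getD i []).map fun k => ct.getD k 0) (lineLists.getD (p i) []) = true ∧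
        subB (lineLists.getD (p i) []) ((lineLists.getD i []).map fun k => ct.getD k 0) = true) →
      ∀ i, ConjAct.toConjAct (π g) • obj i = obj (p i) := by
    intro g ct p hct hset i
    have hc : ∀ k : Fin 560, ConjAct.toConjAct (π g) • π (s k) = π (s ⟨_, (hct k).1⟩) := by
      intro k
      obtain ⟨h, e⟩ := hct k
      rw [ConjAct.toConjAct_smul, ← map_mul, ← map_inv, ← map_mul]
      congr 1
      rw [mul_inv_eq_iff_eq_mul]
      refine toK_injective φ ?_
      rw [map_mul, map_mul, hs, hs]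
      exact e
    obtain ⟨h1, h2⟩ := hset i
    rw [subB_iff] at h1 h2
    ext y
    constructor
    · rintro ⟨_, ⟨k, hk, rfl⟩, rfl⟩
      exact ⟨⟨_, (hct k).1⟩, h1 _ (List.mem_map.2 ⟨k, hk, rfl⟩), (hc k).symm⟩
    · rintro ⟨l, hl, rfl⟩
      obtain ⟨k, hk, he⟩ := List.mem_map.1 (h2 _ hl)
      refine ⟨_, ⟨⟨k, hlt i k hk⟩, hk, rfl⟩, (hc _).trans ?_⟩
      exact congrArg (fun z => π (s z)) (Fin.ext he)
  haveI : Finite (ConjAct (Cfsg.PSU 4 F 3)) := Finite.of_equiv _ ConjAct.toConjAct.toEquiv
  obtain ⟨e⟩ := equiv_closure_of_action (G := ConjAct (Cfsg.PSU 4 F 3)) obj hobj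
    (ConjAct.toConjAct (π sA)) (ConjAct.toConjAct (π sB)) pA pB
    (key sA conjA pA (fun k => ⟨(conj_lt k).1, hsA ▸ (conj_tab k).1⟩) fun i => by
      rw [pA_val]
      simpa only [Bool.and_eq_true] using List.all_eq_true.1 conjA_sets i (List.mem_range.2 i.2))
    (key sB conjB pB (fun k => ⟨(conj_lt k).2, hsB ▸ (conj_tab k).2⟩) fun i => by
      rw [pB_val]
      simpa only [Bool.and_eq_true] using List.all_eq_true.1 conjB_sets i (List.mem_range.2 i.2))
    (by
      rw [← Nat.card_congr ConjAct.toConjAct.toEquiv, card_PSU_four_three hF]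
      exact le_card_model)
  exact ⟨ConjAct.toConjAct.trans e⟩

end CfsgLib.Spor.McLUnitary
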