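import Cfsg.Agent.Lib.Spor.McLUnitary.Unitary
import Cfsg.Agent.Lib.Spor.McLConfig
import Cfsg.Agent.Lib.Spor.HSConfig
import Cfsg.Agent.Lib.Spor.ConwaySimple

/-!
The stabiliser of a point of the 275 in the McLaughlin group is `PSU₄(3)`.
-/

set_option autoImplicit false
set_option maxRecDepth 100000

namespace CfsgLib.Spor.McLUnitary

open Cfsg
open CfsgLib.Spor CfsgLib.Spor.Config
open CfsgLib.Spor.HSUnitary (equiv_closure_of_action)
open CfsgLib.Spor.HSConfig (encL encV_eq_encL encV_inj)
open CfsgLib.Spor.ShortPairs (v0)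
open CfsgLib.Spor.McLConfig (ce p275 pairStab stab275)

theorem card_stab275 : Nat.card stab275 = 3265920 := by
  have h1 := Subgroup.card_mul_index (MulAction.stabilizer pairStab p275)
  rw [MulAction.index_stabilizer, McLConfig.orbit_275, McLConfig.ncard_275,
    ConwaySimple.natCard_mclStd] at h1
  have h2 : Nat.card (MulAction.stabilizer pairStab p275) = Nat.card stab275 :=
    Nat.card_congr ⟨fun g => ⟨g.1.1, g.1.2, g.2⟩, fun g => ⟨⟨g.1, g.2.1⟩, g.2.2⟩,
      fun _ => rfl, fun _ => rfl⟩
  omega

theorem obj_check : (objList.all fun l => decide (l.length = 24) && inLeechB l &&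
    decide (HSConfig.dotL l l = 32)) = true := by decide +kernel

theorem obj_length : objList.length = 112 := by decide +kernel

theorem obj_nodup : objList.Nodup := by decide +kernel

theorem obj_prog : ((List.range 112).all fun i =>
    Nat.beq (runN progA (encL (objList.getD i []))) (encL (objList.getD (permA.getD i 0) [])) &&
    Nat.beq (runN progB (encL (objList.getD i []))) (encL (objList.getD (permB.getD i 0) []))) =
      true := by decide +kernel

theorem stab275_equiv {F : Type} [Field F] [Fintype F] (hF : Fintype.card F = 9) :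
    Nonempty (stab275 ≃* Cfsg.PSU 4 F 3) := by
  have hspec : ∀ i : Fin 112, ∃ v : leechLattice, lOf (v : GolayPt → ℤ) = objList.getD i [] ∧
      sqNorm (v : GolayPt → ℤ) = 32 := by
    intro i
    have hi : (i : ℕ) < objList.length := by rw [obj_length]; exact i.2
    rw [List.getD_eq_getElem _ _ hi]
    have h := List.all_eq_true.1 obj_check _ (List.getElem_mem hi)
    simp only [Bool.and_eq_true, decide_eq_true_eq] at h
    obtain ⟨⟨h0, h1⟩, h2⟩ := h
    have e := lOf_vOf h0
    refine ⟨⟨vOf objList[(i : ℕ)], mem_leech_of_inLeechB (by rw [e]; exact h1)⟩, e, ?_⟩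
    rw [← dot_self, HSConfig.dotInt_eq_dotL, e, h2]
  choose obj hobjl hobjn using hspec
  have hobj : Function.Injective obj := by
    intro i j h
    have e : objList.getD i [] = objList.getD j [] := by rw [← hobjl, ← hobjl, h]
    rw [List.getD_eq_getElem _ _ (by rw [obj_length]; exact i.2),
      List.getD_eq_getElem _ _ (by rw [obj_length]; exact j.2),
      obj_nodup.getElem_inj_iff] at e
    exact Fin.ext e
  have hgens : Gens stab275 [progA, progB] :=
    Gens.of_fixesB (cfg := [lOf (v0 : GolayPt → ℤ), lOf (ce : GolayPt → ℤ),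
      lOf (p275 : GolayPt → ℤ)]) (by decide +kernel)
      fun _ h => ⟨⟨MulAction.mem_stabilizer_iff.2 (h v0 (by simp)),
        MulAction.mem_stabilizer_iff.2 (h ce (by simp))⟩,
        MulAction.mem_stabilizer_iff.2 (h p275 (by simp))⟩
  obtain ⟨hokA, gA, hgA, hA⟩ := hgens.spec progA (by simp)
  obtain ⟨hokB, gB, hgB, hB⟩ := hgens.spec progB (by simp)
  have key : ∀ (g : Co0) (hg : g ∈ stab275) (P : List Stp) (p : Fin 112 → Fin 112),
      P.all Stp.ok = true → ActsAs g (runP P) →
      (∀ i : Fin 112, runN P (encL (objList.getD i [])) = encL (objList.getD (p i) [])) →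
      ∀ i, (⟨g, hg⟩ : stab275) • obj i = obj (p i) := by
    intro g hg P p hok hact hp i
    show g • obj i = obj (p i)
    have hn : sqNorm ((g • obj i : leechLattice) : GolayPt → ℤ) = 32 :=
      (coe_smul_sqNorm g _).trans (hobjn i)
    refine Subtype.ext (encV_inj (small_of_sqNorm (le_of_eq_of_le hn (by norm_num)))
      (small_of_sqNorm (le_of_eq_of_le (hobjn (p i)) (by norm_num))) ?_)
    rw [← runN_spec hok hact (le_of_eq_of_le (hobjn i) (by norm_num)), encV_eq_encL, encV_eq_encL,
      hobjl, hobjl]
    exact hp i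
  haveI : Finite stab275 := Nat.finite_of_card_ne_zero (by rw [card_stab275]; norm_num)
  obtain ⟨e⟩ := equiv_closure_of_action (G := stab275) obj hobj ⟨gA, hgA⟩ ⟨gB, hgB⟩ pA pB
    (key gA hgA progA pA hokA hA fun i => by
      rw [pA_val]
      have := List.all_eq_true.1 obj_prog i (List.mem_range.2 i.2)
      simp only [Bool.and_eq_true, Nat.beq_eq] at this
      exact this.1)
    (key gB hgB progB pB hokB hB fun i => by
      rw [pB_val]
      have := List.all_eq_true.1 obj_prog i (List.mem_range.2 i.2)
      simp only [Bool.and_eq_true, Nat.beq_eq] at this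
      exact this.2)
    (by rw [card_stab275]; exact le_card_model)
  obtain ⟨e'⟩ := psu_equiv_model hF
  exact ⟨e.trans e'.symm⟩

end CfsgLib.Spor.McLUnitary
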