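import Cfsg.Prelude.Def_Classical
import Cfsg.Agent.Lib.Classical.UnitarySimple
import Cfsg.Agent.Lib.Classical.UnitaryOrder

/-!
`SU₄(3)` over a concrete field of order `9`.
-/

set_option autoImplicit false
set_option maxRecDepth 100000
set_option linter.style.haveILetI false

namespace CfsgLib.Spor.McLUnitary

open Matrix

/-- The field of order `9`. -/
abbrev K9 : Type := QuadraticAlgebra (ZMod 3) 2 0

/-- The matrix with a given code. -/
def ofCode (c : ℕ) : Matrix (Fin 4) (Fin 4) K9 := fun i j =>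
  ⟨((c / 9 ^ (4 * (i : ℕ) + j) % 9 % 3 : ℕ) : ZMod 3),
    ((c / 9 ^ (4 * (i : ℕ) + j) % 9 / 3 : ℕ) : ZMod 3)⟩

/-- The code of a matrix. -/
def code (M : Matrix (Fin 4) (Fin 4) K9) : ℕ :=
  ((List.range 16).map fun n =>
    ((M (Fin.ofNat 4 (n / 4)) (Fin.ofNat 4 n)).re.val +
      3 * (M (Fin.ofNat 4 (n / 4)) (Fin.ofNat 4 n)).im.val) * 9 ^ n).sum

/-- Unitarity over `K9`. -/
def IsSU (W : Matrix (Fin 4) (Fin 4) K9) : Prop :=
  W.det = 1 ∧ W.transpose * W.map (fun x => x * x * x) = 1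

instance (W : Matrix (Fin 4) (Fin 4) K9) : Decidable (IsSU W) := instDecidableAnd

/-- A square root of `-1`. -/
def iK : K9 := ⟨0, 1⟩

theorem fourth_roots : ∀ a b : ZMod 3, (⟨a, b⟩ : K9) * ⟨a, b⟩ * ⟨a, b⟩ * ⟨a, b⟩ = 1 →
    (⟨a, b⟩ : K9) = 1 ∨ (⟨a, b⟩ : K9) = iK ∨ (⟨a, b⟩ : K9) = iK * iK ∨
      (⟨a, b⟩ : K9) = iK * iK * iK := by decide +kernel

variable {F : Type*} [Field F] [Fintype F]

theorem exists_ringEquiv (hF : Fintype.card F = 9) : Nonempty (K9 ≃+* F) := by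
  haveI : Fact (∀ r : ZMod 3, r ^ 2 ≠ (2 : ZMod 3) + 0 * r) := ⟨by decide⟩
  haveI : Fact (Nat.Prime 3) := ⟨by norm_num⟩
  haveI : Finite K9 := Finite.of_equiv _ (QuadraticAlgebra.equivProd (2 : ZMod 3) 0).symm
  letI := Fintype.ofFinite K9
  have h : Fintype.card K9 = 9 := by
    rw [← Nat.card_eq_fintype_card, Nat.card_congr (QuadraticAlgebra.equivProd (2 : ZMod 3) 0),
      Nat.card_prod, Nat.card_zmod]
  exact ⟨FiniteField.ringEquivOfCardEq (h.trans hF.symm)⟩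

theorem charP_three (hF : Fintype.card F = 9) : CharP F 3 := by
  obtain ⟨p, hc⟩ := CharP.exists F
  haveI := hc
  obtain ⟨n, hp, hn⟩ := FiniteField.card F p
  rw [hF] at hn
  have h : p ∣ 3 := hp.dvd_of_dvd_pow (show p ∣ 3 ^ 2 from
    (show (3 : ℕ) ^ 2 = p ^ (n : ℕ) from hn) ▸ dvd_pow_self p n.ne_zero)
  rwa [(Nat.prime_dvd_prime_iff_eq hp (by norm_num)).1 h] at hc

theorem hermForm_mulVec_three [CharP F 3] (A : Matrix (Fin 4) (Fin 4) F) (u v : Fin 4 → F) :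
    Cfsg.hermForm 4 F 3 (A *ᵥ u) (A *ᵥ v) =
      u ⬝ᵥ ((A.transpose * A.map (fun x => x * x * x)) *ᵥ fun i => v i ^ 3) := by
  haveI : Fact (Nat.Prime 3) := ⟨by norm_num⟩
  rw [← Matrix.mulVec_mulVec, Matrix.dotProduct_mulVec, Matrix.vecMul_transpose]
  show ∑ i, (A *ᵥ u) i * (A *ᵥ v) i ^ 3 = ∑ i, _
  refine Finset.sum_congr rfl fun i _ => ?_
  congr 1
  show (∑ j, A i j * v j) ^ 3 = ∑ j, (A i j * A i j * A i j) * v j ^ 3
  rw [sum_pow_char]
  exact Finset.sum_congr rfl fun j _ => by ring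

/-- The elements of `SU₄(3)` as matrices over the concrete field. -/
def toK (φ : K9 ≃+* F) : Cfsg.SU 4 F 3 →* Matrix (Fin 4) (Fin 4) K9 where
  toFun s := (φ.symm : F →+* K9).mapMatrix s.1.1
  map_one' := by simp
  map_mul' s t := by simp

theorem toK_injective (φ : K9 ≃+* F) : Function.Injective (toK φ) := fun s t h =>
  Subtype.ext (Subtype.ext (Matrix.map_injective φ.symm.injective h))

theorem exists_toK [CharP F 3] (φ : K9 ≃+* F) {W : Matrix (Fin 4) (Fin 4) K9} (hW : IsSU W) :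
    ∃ g : Cfsg.SU 4 F 3, toK φ g = W := by
  let g₁ : Matrix.SpecialLinearGroup (Fin 4) F := ⟨W.map φ, by
    rw [← RingEquiv.coe_toRingHom, ← RingHom.mapMatrix_apply, ← RingHom.map_det, hW.1, map_one]⟩
  refine ⟨⟨g₁, fun u v => ?_⟩, ?_⟩
  · show Cfsg.hermForm 4 F 3 (W.map φ *ᵥ u) (W.map φ *ᵥ v) = _
    rw [hermForm_mulVec_three]
    have e' : (W.map φ).transpose * (W.map φ).map (fun x => x * x * x) = 1 := by
      have h0 := congrArg (fun X => (φ : K9 →+* F).mapMatrix X) hW.2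
      simp only [map_mul, map_one] at h0
      rw [← h0]
      congr 1
      ext p r; simp
    rw [e', Matrix.one_mulVec]; rfl
  · show (φ.symm : F →+* K9).mapMatrix (W.map φ) = W
    exact Matrix.ext fun i j => by simp

theorem toK_center (hF : Fintype.card F = 9) (φ : K9 ≃+* F) {g : Cfsg.SU 4 F 3}
    (hg : g ∈ Subgroup.center (Cfsg.SU 4 F 3)) :
    toK φ g = 1 ∨ toK φ g = iK • 1 ∨ toK φ g = (iK * iK) • 1 ∨
      toK φ g = (iK * iK * iK) • 1 := by
  obtain ⟨c, -, hc4, hc⟩ := CfsgLib.Classical.SU_center_scalar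
    (show Nat.card F = 3 ^ 2 by rw [Nat.card_eq_fintype_card, hF]; norm_num) (by norm_num) hg
  have h : toK φ g = φ.symm c • (1 : Matrix (Fin 4) (Fin 4) K9) := by
    show (φ.symm : F →+* K9).mapMatrix g.1.1 = _
    rw [hc]
    refine Matrix.ext fun i j => ?_
    rw [RingHom.mapMatrix_apply, Matrix.map_apply, Matrix.smul_apply, Matrix.diagonal_apply,
      Matrix.one_apply]
    split_ifs <;> simp
  obtain ⟨a, b, hab⟩ : ∃ a b : ZMod 3, φ.symm c = ⟨a, b⟩ := ⟨_, _, rfl⟩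
  have h4 : (⟨a, b⟩ : K9) * ⟨a, b⟩ * ⟨a, b⟩ * ⟨a, b⟩ = 1 := by
    rw [← hab, ← map_mul, ← map_mul, ← map_mul, ← map_one φ.symm, ← hc4]
    congr 1
    ring
  rw [h, hab]
  rcases fourth_roots a b h4 with e | e | e | e
  · exact Or.inl (by rw [e, one_smul])
  · exact Or.inr (Or.inl (by rw [e]))
  · exact Or.inr (Or.inr (Or.inl (by rw [e])))
  · exact Or.inr (Or.inr (Or.inr (by rw [e])))

theorem card_PSU_four_three (hF : Fintype.card F = 9) :
    Nat.card (Cfsg.PSU 4 F 3) = 3265920 := by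
  have hF' : Nat.card F = 3 ^ 2 := by rw [Nat.card_eq_fintype_card, hF]; norm_num
  have h := CfsgLib.Classical.card_PSU_mul (n := 4) hF' (by norm_num)
  rw [CfsgLib.Classical.card_GU hF'] at h
  simp only [Finset.prod_range_succ, Finset.prod_range_zero] at h
  norm_num [show Even 2 from ⟨1, rfl⟩, show ¬ Even 3 by decide] at h
  omega

end CfsgLib.Spor.McLUnitary
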